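import Groth.Agent.BrnchLib.NormBij
import Groth.Agent.RadBir5.Local
import Groth.Agent.UnibEtale.Basic
import Groth.Agent.S9812
import Groth.Agent.S5863
import Groth.Agent.ConsPropLib.PointwiseProps
import Mathlib.RingTheory.Localization.LocalizationLocalization
import Mathlib.RingTheory.QuasiFinite.Basic
import Mathlib.AlgebraicGeometry.Morphisms.Finite
import Mathlib.AlgebraicGeometry.Noetherian

/-!
# The geometrically unibranch locus with finite normalization is constructible
-/

set_option autoImplicit false
set_option backward.isDefEq.respectTransparency false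
set_option backward.isDefEq.respectTransparency.types false

universe u

open CategoryTheory CategoryTheory.Limits AlgebraicGeometry TopologicalSpace Topology

namespace Groth.Agent.UnibCons5

theorem genericPoints_Spec {R : Type u} [CommRing R] (z : PrimeSpectrum R) :
    z ∈ genericPoints ↥(Spec (CommRingCat.of R)) ↔ z.asIdeal ∈ minimalPrimes R := by
  rw [RadBir5.mem_genericPoints_iff]
  constructor
  · intro h
    refine ⟨⟨z.isPrime, bot_le⟩, fun Q hQ hle => ?_⟩
    have := h (⟨Q, hQ.1⟩ : PrimeSpectrum R) ((PrimeSpectrum.le_iff_specializes _ _).1 hle)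
    exact (congrArg PrimeSpectrum.asIdeal this).ge
  · intro h w hw
    have hle : (show PrimeSpectrum R from w).asIdeal ≤ z.asIdeal := (PrimeSpectrum.le_iff_specializes _ _).2 hw
    exact PrimeSpectrum.ext (le_antisymm hle (h.2 ⟨(show PrimeSpectrum R from w).isPrime, bot_le⟩ hle))

/-- A finite ring map bijective on minimal primes and birational there is birational. -/
theorem isBirational_SpecMap (A C : Type u) [CommRing A] [CommRing C] [Algebra A C] [Module.Finite A C]
    (hbij : Set.BijOn (Ideal.comap (algebraMap A C)) (minimalPrimes C) (minimalPrimes A))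
    (hbir : ∀ P ∈ minimalPrimes C, ∀ b : C, ∃ a a₀ : A,
      algebraMap A C a ∉ P ∧ algebraMap A C a * b - algebraMap A C a₀ ∈ P) :
    RadPt.IsBirational (Spec.map (CommRingCat.ofHom (algebraMap A C))) := by
  have huniq : ∀ Q P : Ideal C, Q.IsPrime → P ∈ minimalPrimes C →
      Q.comap (algebraMap A C) = P.comap (algebraMap A C) → Q = P := by
    intro Q P hQ hP hQP
    obtain ⟨P', hP', hle⟩ := Ideal.exists_minimalPrimes_le (I := (⊥ : Ideal C)) (J := Q) bot_le
    haveI := hP'.1.1
    have hmin := hbij.mapsTo hP'
    have he : P'.comap (algebraMap A C) = P.comap (algebraMap A C) :=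
      le_antisymm (hQP ▸ Ideal.comap_mono hle)
        ((hbij.mapsTo hP).2 ⟨inferInstance, bot_le⟩ (hQP ▸ Ideal.comap_mono hle))
    obtain rfl := hbij.injOn hP' hP he
    exact (Algebra.QuasiFinite.eq_of_le_of_under_eq (R := A) P' Q hle hQP.symm).symm
  have hlift : ∀ P ∈ minimalPrimes C, ∀ z : PrimeSpectrum A, z.asIdeal = P.comap (algebraMap A C) →
      RadBir5.UniqueLift (Spec.map (CommRingCat.ofHom (algebraMap A C))) z := by
    intro P hP z hz K _ t ht
    haveI := hP.1.1
    obtain ⟨ψ, rfl⟩ := Spec.map_surjective t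
    let p := P.comap (algebraMap A C)
    have hker : RingHom.ker ψ.hom = p := by
      show _ = P.comap (algebraMap A C)
      rw [← hz, ← ht]
      exact (RingHom.ker_eq_comap_bot ψ.hom).trans
        (congrArg (Ideal.comap ψ.hom) IsLocalRing.maximalIdeal_eq_bot.symm)
    let ι : p.ResidueField →+* P.ResidueField := Ideal.ResidueField.lift p
      ((algebraMap C P.ResidueField).comp (algebraMap A C))
      (fun a ha => by rw [RingHom.mem_ker, RingHom.comp_apply, Ideal.algebraMap_residueField_eq_zero]; exact ha)
      (fun a ha => IsUnit.mk0 _ fun h => ha (by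
        rw [RingHom.comp_apply, Ideal.algebraMap_residueField_eq_zero] at h; exact h))
    have hι : ∀ a : A, ι (algebraMap A _ a) = algebraMap C P.ResidueField (algebraMap A C a) :=
      fun a => Ideal.ResidueField.lift_algebraMap _ _ _ _ _
    have hb : ∀ b : C, algebraMap C P.ResidueField b ∈ ι.fieldRange := fun b => by
      obtain ⟨a, a₀, ha, h⟩ := hbir P hP b
      have h0 : algebraMap C P.ResidueField (algebraMap A C a) ≠ 0 := fun h => ha
        (Ideal.algebraMap_residueField_eq_zero.1 h)
      have e : algebraMap C P.ResidueField b = ι (algebraMap A _ a₀) / ι (algebraMap A _ a) := by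
        rw [eq_div_iff (by rw [hι]; exact h0), hι, hι, ← map_mul, ← sub_eq_zero, ← map_sub,
          Ideal.algebraMap_residueField_eq_zero, mul_comm]
        exact h
      rw [e, ← map_div₀]
      exact RingHom.mem_fieldRange_self _ _
    have hsurj : Function.Surjective ι := fun w => by
      obtain ⟨x, y, -, rfl⟩ := IsFractionRing.div_surjective (A := C ⧸ P) w
      obtain ⟨x, rfl⟩ := Ideal.Quotient.mk_surjective x
      obtain ⟨y, rfl⟩ := Ideal.Quotient.mk_surjective y
      obtain ⟨x', hx'⟩ := hb x
      obtain ⟨y', hy'⟩ := hb y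
      exact ⟨x' / y', by rw [map_div₀, hx', hy']; rfl⟩
    let e : p.ResidueField ≃+* P.ResidueField := RingEquiv.ofBijective ι ⟨ι.injective, hsurj⟩
    let ψ₀ : p.ResidueField →+* K := Ideal.ResidueField.lift p ψ.hom hker.ge
      (fun a ha => IsUnit.mk0 _ fun h => ha (hker.le h))
    let l : C →+* K := ψ₀.comp (e.symm.toRingHom.comp (algebraMap C P.ResidueField))
    have hl : ∀ a : A, l (algebraMap A C a) = ψ.hom a := fun a => by
      show ψ₀ (e.symm (algebraMap C P.ResidueField (algebraMap A C a))) = _
      rw [show algebraMap C P.ResidueField (algebraMap A C a) = e (algebraMap A _ a) from (hι a).symm,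
        e.symm_apply_apply]
      exact Ideal.ResidueField.lift_algebraMap _ _ _ _ _
    refine ⟨Spec.map (CommRingCat.ofHom l), ?_, fun m hm => ?_⟩
    · show Spec.map _ ≫ Spec.map _ = _
      rw [← Spec.map_comp]
      congr 1
      ext a
      exact hl a
    obtain ⟨g, rfl⟩ := Spec.map_surjective m
    rw [← Spec.map_comp, Spec.map_inj] at hm
    have hg : ∀ a : A, g.hom (algebraMap A C a) = ψ.hom a := fun a => congr($hm a)
    have hk : ∀ f : C →+* K, (∀ a, f (algebraMap A C a) = ψ.hom a) → RingHom.ker f = P := fun f hf =>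
      huniq _ P (RingHom.ker_isPrime f) hP (by
        rw [RingHom.comap_ker, show f.comp (algebraMap A C) = ψ.hom from RingHom.ext hf, hker])
    congr 1
    refine CommRingCat.hom_ext (RingHom.ext fun b => ?_)
    obtain ⟨a, a₀, ha, h⟩ := hbir P hP b
    have h0 : ψ.hom a ≠ 0 := fun h => ha (hker.le h)
    have key : ∀ f : C →+* K, (∀ a, f (algebraMap A C a) = ψ.hom a) → ψ.hom a * f b = ψ.hom a₀ := by
      intro f hf
      have h1 : f (algebraMap A C a * b - algebraMap A C a₀) = 0 := (hk f hf).ge h
      rw [map_sub, map_mul, hf, hf, sub_eq_zero] at h1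
      exact h1
    exact mul_left_cancel₀ h0 ((key g.hom hg).trans (key l hl).symm)
  refine ⟨⟨fun z hz => ?_, fun z hz w hw h => ?_, fun z hz => ?_⟩, fun z hz => ?_⟩
  · rw [genericPoints_Spec] at hz
    exact (genericPoints_Spec _).2 (hbij.mapsTo hz)
  · rw [genericPoints_Spec] at hz hw
    exact PrimeSpectrum.ext (hbij.injOn hz hw (congrArg PrimeSpectrum.asIdeal h))
  · obtain ⟨P, hP, hPz⟩ := hbij.surjOn ((genericPoints_Spec _).1 hz)
    haveI := hP.1.1
    exact ⟨(⟨P, inferInstance⟩ : PrimeSpectrum C), (genericPoints_Spec _).2 hP, PrimeSpectrum.ext hPz⟩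
  · obtain ⟨P, hP, hPz⟩ := hbij.surjOn ((genericPoints_Spec _).1 hz)
    have h := hlift P hP z hPz.symm
    exact ⟨fun x x' hx hx' => h.eq hx hx', fun x hx => h.bijective hx⟩

set_option synthInstance.maxHeartbeats 200000 in
/-- A localization of a normal local domain at a prime is geometrically unibranch. -/
theorem isGeomUnibranch_atPrime_of_le {C : Type u} [CommRing C] (P m : Ideal C) [P.IsPrime] [m.IsPrime]
    (hle : P ≤ m) (hd : IsDomain (Localization.AtPrime m)) (hn : IsIntegrallyClosed (Localization.AtPrime m)) :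
    CAlg2.IsGeomUnibranch (Localization.AtPrime P) := by
  have hdisj : Disjoint (m.primeCompl : Set C) (P : Set C) :=
    Set.disjoint_left.2 fun x hx hxP => hx (hle hxP)
  have hp := IsLocalization.isPrime_of_isPrime_disjoint m.primeCompl (Localization.AtPrime m) P ‹_› hdisj
  have hQ := IsLocalization.comap_map_of_isPrime_disjoint m.primeCompl (Localization.AtPrime m) ‹P.IsPrime› hdisj
  have hle' := (P.map (algebraMap C (Localization.AtPrime m))).primeCompl_le_nonZeroDivisors
  haveI : IsIntegrallyClosed (Localization.AtPrime (P.map (algebraMap C (Localization.AtPrime m)))) :=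
    isIntegrallyClosed_of_isLocalization _ _ hle'
  have h := S9812.result (Localization.AtPrime (P.map (algebraMap C (Localization.AtPrime m))))
  have h1 := UnibEtale.isGeomUnibranch_of_ringEquiv
    (IsLocalization.localizationLocalizationAtPrimeIsoLocalization m.primeCompl
      (P.map (algebraMap C (Localization.AtPrime m)))).symm.toRingEquiv h
  haveI : IsLocalization ((P.map (algebraMap C (Localization.AtPrime m))).comap
      (algebraMap C (Localization.AtPrime m))).primeCompl (Localization.AtPrime P) := by
    convert (inferInstance : IsLocalization P.primeCompl (Localization.AtPrime P)) using 2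
  exact UnibEtale.isGeomUnibranch_of_ringEquiv (IsLocalization.algEquiv
    ((P.map (algebraMap C (Localization.AtPrime m))).comap
      (algebraMap C (Localization.AtPrime m))).primeCompl _ _).toRingEquiv h1

/-- The normalization has normal local domains. -/
theorem isGeomUnibranch_stalk_normRed (A : Type u) [CommRing A] [IsNoetherianRing A]
    (z : ↥(Spec (CommRingCat.of (CAlg2.normRed A)))) :
    CAlg2.IsGeomUnibranch ((Spec (CommRingCat.of (CAlg2.normRed A))).presheaf.stalk z) := by
  haveI : Finite (minimalPrimes A) := (minimalPrimes.finite_of_isNoetherianRing A).to_subtype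
  haveI := (show PrimeSpectrum (CAlg2.normRed A) from z).isPrime
  obtain ⟨m, hm, hle⟩ := Ideal.exists_le_maximal (show PrimeSpectrum (CAlg2.normRed A) from z).asIdeal
    (show PrimeSpectrum (CAlg2.normRed A) from z).isPrime.ne_top
  obtain ⟨hd, hn⟩ := BrnchLib.isDomain_normal_localization (BrnchLib.comps A) m
  exact UnibEtale.isGeomUnibranch_of_ringEquiv (IsLocalization.algEquiv
      (show PrimeSpectrum (CAlg2.normRed A) from z).asIdeal.primeCompl _
      ((Spec.structureSheaf (CAlg2.normRed A)).presheaf.stalk z)).toRingEquiv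
    (isGeomUnibranch_atPrime_of_le _ m hle hd hn)

theorem universallyInjective_snd_iff {X Y : Scheme.{u}} (f : X ⟶ Y) (s : Y) :
    UniversallyInjective (pullback.snd f (Y.fromSpecResidueField s)) ↔ RadPt.IsRadicialAt f s := by
  have hs : ∀ y', Y.fromSpecResidueField s y' = s := fun y' => Scheme.fromSpecResidueField_apply s y'
  rw [(tfae_universallyInjective (pullback.snd f (Y.fromSpecResidueField s))).out 0 2 rfl rfl]
  constructor
  · rintro ⟨h1, h2⟩
    have := (S5863.result (IsPullback.of_hasPullback f (Y.fromSpecResidueField s))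
      (IsLocalRing.closedPoint (Y.residueField s))).2 ⟨fun x x' hx hx' => h1 (hx.trans hx'.symm), fun x _ => h2 x⟩
    rwa [hs] at this
  · intro h
    have key : ∀ y', RadPt.IsRadicialAt (pullback.snd f (Y.fromSpecResidueField s)) y' := fun y' =>
      (S5863.result (IsPullback.of_hasPullback f (Y.fromSpecResidueField s)) y').1 (by rwa [hs])
    exact ⟨fun x x' h => (key _).1 x x' rfl h.symm, fun x => (key _).2 x rfl⟩

theorem isLocallyConstructible_affine (A : CommRingCat.{u}) [IsNoetherianRing A]
    (hfin : Module.Finite (CAlg2.red A) (CAlg2.normRed A)) :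
    IsLocallyConstructible {y : ↥(Spec A) | CAlg2.IsGeomUnibranch ((Spec A).presheaf.stalk y)} := by
  haveI := hfin
  haveI : Finite (minimalPrimes A) := (minimalPrimes.finite_of_isNoetherianRing A).to_subtype
  haveI : Module.Finite A (CAlg2.red A) := inferInstance
  haveI : Module.Finite A (CAlg2.normRed A) := Module.Finite.trans (CAlg2.red A) _
  let ν : Spec (CommRingCat.of (CAlg2.normRed A)) ⟶ Spec A :=
    Spec.map (CommRingCat.ofHom (algebraMap A (CAlg2.normRed A)))
  haveI : IsFinite ν := (IsFinite.SpecMap_iff _).2 (RingHom.finite_algebraMap.2 inferInstance)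
  haveI : LocallyOfFinitePresentation ν :=
    (HasRingHomProperty.Spec_iff (P := @LocallyOfFinitePresentation)).2
      (RingHom.FinitePresentation.of_finiteType.1 (RingHom.finite_algebraMap.2 inferInstance).finiteType)
  have hb : RadPt.IsBirational ν :=
    isBirational_SpecMap A (CAlg2.normRed A) (BrnchLib.bijOn_normRed A) (BrnchLib.birational_normRed A)
  have h := ConsPropLib.isLocallyConstructible_locusMor ConsPropLib.isConsMor_universallyInjective ν (𝟙 (Spec A))
  convert h using 1
  ext s
  rw [Set.mem_setOf_eq, RadBir5.isGeomUnibranch_iff ν hb s]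
  refine Iff.trans ⟨fun h => h.1, fun h => ⟨h, fun x _ => isGeomUnibranch_stalk_normRed A x⟩⟩ ?_
  rw [← universallyInjective_snd_iff]
  show _ ↔ UniversallyInjective _
  have e : (pullback.congrHom (Category.comp_id ν) rfl).inv ≫
      pullback.lift (pullback.fst (ν ≫ 𝟙 _) ((Spec A).fromSpecResidueField s) ≫ ν)
        (pullback.snd (ν ≫ 𝟙 _) ((Spec A).fromSpecResidueField s))
        ((Category.assoc _ _ _).trans pullback.condition) ≫
      pullback.snd (𝟙 _) ((Spec A).fromSpecResidueField s) =
      pullback.snd ν ((Spec A).fromSpecResidueField s) := by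
    simp
  rw [← e, MorphismProperty.cancel_left_of_respectsIso (P := @UniversallyInjective),
    MorphismProperty.cancel_right_of_respectsIso (P := @UniversallyInjective)]
  rfl

theorem isLocallyConstructible_geomUnibranch (X : Scheme.{u}) [IsLocallyNoetherian X]
    (hfin : ∀ U : X.affineOpens, Module.Finite (CAlg2.red Γ(X, U.1)) (CAlg2.normRed Γ(X, U.1))) :
    IsLocallyConstructible {x : X | CAlg2.IsGeomUnibranch (X.presheaf.stalk x)} := by
  refine IsLocallyConstructible.of_isOpenCover (U := fun W : X.affineOpens => W.1)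
    (iSup_affineOpens_eq_top X) fun W => ?_
  haveI : IsNoetherianRing Γ(X, W.1) := IsLocallyNoetherian.component_noetherian W
  have h := (isLocallyConstructible_affine Γ(X, W.1) (hfin W)).preimage_of_isOpenEmbedding
    W.2.isoSpec.hom.isOpenEmbedding
  show IsLocallyConstructible (X := W.1.toScheme) (W.1.ι ⁻¹' {x : X | CAlg2.IsGeomUnibranch (X.presheaf.stalk x)})
  refine Eq.subst (motive := fun T => IsLocallyConstructible (X := W.1.toScheme) T) (Set.ext fun x => ?_) h
  symm
  show CAlg2.IsGeomUnibranch (X.presheaf.stalk (W.1.ι x)) ↔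
    CAlg2.IsGeomUnibranch ((Spec Γ(X, W.1)).presheaf.stalk (W.2.isoSpec.hom x))
  let e₁ := (asIso (W.1.ι.stalkMap x)).commRingCatIsoToRingEquiv
  let e₂ := (asIso (W.2.isoSpec.hom.stalkMap x)).commRingCatIsoToRingEquiv
  exact ⟨fun h => UnibEtale.isGeomUnibranch_of_ringEquiv (e₁.trans e₂.symm) h,
    fun h => UnibEtale.isGeomUnibranch_of_ringEquiv (e₂.trans e₁.symm) h⟩

end Groth.Agent.UnibCons5
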